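import Mathlib

universe w v u

open CategoryTheory Category Limits

variable {C : Type u} [Category.{v} C] [Abelian C]

namespace Helper5.ExtLib

open HomologicalComplex

set_option backward.defeqAttrib.useBackward true in
set_option backward.isDefEq.respectTransparency false in
/-- For a quasi-isomorphism `π : K ⟶ X[0]` with `K` strictly `≤ 0`, the degree `0` component
is an epimorphism. -/
lemma epi_f_of_quasiIsoAt {P : C} {K : CochainComplex C ℤ} {i : ℤ}
    (π : K ⟶ (CochainComplex.singleFunctor C i).obj P) [K.IsStrictlyLE i] [QuasiIsoAt π i] :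
    Epi (π.f i) := by
  let e := K.iCyclesIso i (i + 1) (by simp)
    ((K.isZero_of_isStrictlyLE i (i + 1) (by simp)).eq_of_tgt _ _)
  let α := e.inv ≫ K.homologyπ i ≫ homologyMap π i ≫ (singleObjHomologySelfIso _ _ _).hom
  have : π.f i = α ≫ (singleObjXSelf (ComplexShape.up ℤ) i P).inv := by
    rw [← cancel_epi e.hom]
    dsimp [α, e]
    rw [assoc, assoc, assoc, iCyclesIso_hom_inv_id_assoc,
      homologyπ_naturality_assoc]
    dsimp [CochainComplex.singleFunctor, CochainComplex.singleFunctors]
    rw [homologyπ_singleObjHomologySelfIso_hom_assoc,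
      ← singleObjCyclesSelfIso_inv_iCycles, Iso.hom_inv_id_assoc, ← cyclesMap_i]
  rw [this]
  infer_instance

end Helper5.ExtLib

namespace Helper5.ExtLib

open HomologicalComplex DerivedCategory

variable [HasDerivedCategory.{w} C]

set_option backward.defeqAttrib.useBackward true in
set_option backward.isDefEq.respectTransparency false in
lemma exists_epi_comp_eq_zero {X : C} {L : CochainComplex C ℤ}
    (φ : Q.obj ((CochainComplex.singleFunctor C 0).obj X) ⟶ Q.obj L) (hL : IsZero (L.X 0)) :
    ∃ (X' : C) (p : X' ⟶ X), Epi p ∧ Q.map ((CochainComplex.singleFunctor C 0).map p) ≫ φ = 0 := by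
  obtain ⟨K, _, π, h, g, rfl⟩ := right_fac_of_isStrictlyLE φ 0
  rw [isIso_Q_map_iff_quasiIso] at h
  have hepi : Epi (π.f 0) := epi_f_of_quasiIsoAt π
  let j : (CochainComplex.singleFunctor C 0).obj (K.X 0) ⟶ K :=
    mkHomFromSingle (𝟙 _) (by
      rintro _ rfl
      apply (K.isZero_of_isStrictlyLE 0 (0 + 1) (by simp)).eq_of_tgt)
  let p : K.X 0 ⟶ X := π.f 0 ≫ (singleObjXSelf (ComplexShape.up ℤ) 0 X).hom
  have hp : Epi p := epi_comp _ _
  have h₁ : j ≫ π = (CochainComplex.singleFunctor C 0).map p := by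
    apply HomologicalComplex.from_single_hom_ext
    dsimp [CochainComplex.singleFunctor, CochainComplex.singleFunctors]
    rw [single_map_f_self]
    simp [p, j]
  have h₂ : j ≫ g = 0 := by
    apply HomologicalComplex.from_single_hom_ext
    apply hL.eq_of_tgt
  refine ⟨K.X 0, p, hp, ?_⟩
  rw [← h₁, Q.map_comp, assoc, IsIso.hom_inv_id_assoc, ← Q.map_comp, h₂, Q.map_zero]

end Helper5.ExtLib

namespace Helper5.ExtLib

open Abelian DerivedCategory

set_option backward.isDefEq.respectTransparency false in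
/-- Effaceability of `Ext` in positive degrees (in the first variable). -/
lemma Ext.exists_epi_mk₀_comp_eq_zero [HasExt.{w} C] {X Y : C} {n : ℕ}
    (e : Ext X Y (n + 1)) :
    ∃ (X' : C) (p : X' ⟶ X), Epi p ∧ (Ext.mk₀ p).comp e (zero_add _) = 0 := by
  let := HasDerivedCategory.standard C
  let iso := ((singleFunctors C).shiftIso (n + 1) (-(n + 1)) 0 (by lia)).app Y
  let φ : Q.obj ((CochainComplex.singleFunctor C 0).obj X) ⟶
      Q.obj ((CochainComplex.singleFunctor C (-(n + 1))).obj Y) :=
    Ext.homEquiv e ≫ iso.hom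
  obtain ⟨X', p, hp, h⟩ := exists_epi_comp_eq_zero φ (by
    apply HomologicalComplex.isZero_single_obj_X
    lia)
  refine ⟨X', p, hp, ?_⟩
  apply Ext.homEquiv.injective
  change ((Ext.mk₀ p).comp e (zero_add _)).hom = (0 : Ext X' Y (n+1)).hom
  rw [Ext.comp_hom, Ext.mk₀_hom, Ext.zero_hom, ShiftedHom.mk₀_comp]
  dsimp only [φ] at h
  rw [← cancel_mono iso.hom, Limits.zero_comp, assoc]
  exact h

end Helper5.ExtLib

namespace Helper5.ExtLib

open Abelian

/-- If `Extⁱ` vanishes identically then so does `Extⁱ⁺¹`. -/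
lemma Ext.eq_zero_succ_of_forall_eq_zero {A : Type u} [Category.{v} A] [Abelian A] [HasExt.{w} A]
    (i : ℕ) (h : ∀ (B C : A) (x : Ext B C i), x = 0) (B C : A) (x : Ext B C (i + 1)) : x = 0 := by
  obtain ⟨B', p, hp, hx⟩ := Ext.exists_epi_mk₀_comp_eq_zero x
  let S : ShortComplex A := ShortComplex.mk (kernel.ι p) p (kernel.condition p)
  have hS : S.ShortExact :=
    { exact := ShortComplex.exact_of_f_is_kernel _ (kernelIsKernel p)
      mono_f := by dsimp [S]; infer_instance
      epi_g := hp }
  obtain ⟨x₁, hx₁⟩ := Ext.contravariant_sequence_exact₃ hS C x hx (n₀ := i) (by lia)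
  rw [← hx₁, h _ _ x₁, Ext.comp_zero]

lemma Ext.eq_zero_of_le_of_forall_eq_zero {A : Type u} [Category.{v} A] [Abelian A] [HasExt.{w} A]
    (p : ℕ) (h : ∀ (B C : A) (x : Ext B C p), x = 0) (i : ℕ) (hi : p ≤ i)
    (B C : A) (x : Ext B C i) : x = 0 := by
  induction i, hi using Nat.le_induction generalizing B C with
  | base => exact h B C x
  | succ i _ ih => exact Ext.eq_zero_succ_of_forall_eq_zero i (fun B C x => ih B C x) B C x

end Helper5.ExtLib
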